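import Groth.Agent.Lib.KFlat8.SiteLT
import Groth.Agent.Lib.KFlat.Flat

/-!
When is `M ↦ H^p (M ⊗ᴸ E)` right exact, for a bounded above complex of flat modules on a ringed site.
-/

set_option autoImplicit false
set_option linter.unusedSectionVars false
set_option backward.isDefEq.respectTransparency false
set_option backward.isDefEq.respectTransparency.types false

universe v u

open CategoryTheory CategoryTheory.Limits

attribute [local instance] HasDerivedCategory.standard

namespace Groth.Agent.KFlat8

open KFlat KFlat.Site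

theorem mono_homologyMap_iff {A : Type*} [Category* A] [Abelian A] {K L : CochainComplex A ℤ} (φ : K ⟶ L)
    (i j : ℤ) (hij : i + 1 = j) [Mono (φ.f j)] :
    Mono (HomologicalComplex.homologyMap φ i) ↔ Mono (HomologicalComplex.opcyclesMap φ i) := by
  have hj : (ComplexShape.up ℤ).next i = j := by simp [hij]
  constructor
  · intro h
    refine Preadditive.mono_of_cancel_zero _ fun {W} z hz => ?_
    have hn : K.fromOpcycles i j ≫ φ.f j = HomologicalComplex.opcyclesMap φ i ≫ L.fromOpcycles i j := by
      simp [← cancel_epi (K.pOpcycles i)]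
    have h1 : z ≫ K.fromOpcycles i j = 0 := by
      rw [← cancel_mono (φ.f j), Category.assoc, zero_comp, hn, reassoc_of% hz, zero_comp]
    obtain ⟨w, hw⟩ := KernelFork.IsLimit.lift' (K.homologyIsKernel i j hj) z h1
    have hw' : w ≫ K.homologyι i = z := hw
    have h2 : (w ≫ HomologicalComplex.homologyMap φ i) ≫ L.homologyι i = 0 := by
      rw [Category.assoc, HomologicalComplex.homologyι_naturality, reassoc_of% hw', hz]
    rw [← zero_comp (f := L.homologyι i), cancel_mono] at h2
    rw [← zero_comp (f := HomologicalComplex.homologyMap φ i), cancel_mono] at h2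
    rw [← hw', h2, zero_comp]
  · intro h
    have : Mono (HomologicalComplex.homologyMap φ i ≫ L.homologyι i) := by
      rw [HomologicalComplex.homologyι_naturality]
      infer_instance
    exact mono_of_mono _ (L.homologyι i)

section Generic

variable {A : Type u} [Category.{v} A] [Abelian A] [HasColimitsOfSize.{0, 0} A]
  (T : A ⥤ A ⥤ A) [T.Additive] [∀ X, (T.obj X).Additive]
  [∀ X, PreservesColimitsOfSize.{0, 0} (T.obj X)]
  [∀ X, PreservesColimitsOfSize.{0, 0} (T.flip.obj X)] (L : CochainComplex A ℤ)

/-- `M ↦ L ⊗ M[0]`. -/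
noncomputable abbrev tensSingle : A ⥤ CochainComplex A ℤ :=
  HomologicalComplex.single A (ComplexShape.up ℤ) 0 ⋙ (tcx T).obj L

theorem singleTotalIso_naturality {M M' : A} (f : M ⟶ M') (n : ℤ) :
    (T.obj (L.X n)).map f ≫ (singleTotalIso (T := T) L 0 M' (add_zero n)).hom =
      (singleTotalIso (T := T) L 0 M (add_zero n)).hom ≫ ((tensSingle T L).map f).f n := by
  change _ ≫ _ ≫ _ = (_ ≫ _) ≫ (((tcx T).obj L).map _).f n
  rw [Category.assoc, ι_tcx_map₂, ← Functor.map_comp_assoc, ← Functor.map_comp_assoc,
    HomologicalComplex.single_map_f_self, Iso.inv_hom_id_assoc]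

theorem mono_tensSingle_map_f_iff {M M' : A} (f : M ⟶ M') (n : ℤ) :
    Mono (((tensSingle T L).map f).f n) ↔ Mono ((T.obj (L.X n)).map f) :=
  ((MorphismProperty.monomorphisms _).arrow_mk_iso_iff
    (Arrow.isoMk (singleTotalIso (T := T) L 0 M (add_zero n)) (singleTotalIso (T := T) L 0 M' (add_zero n))
      (singleTotalIso_naturality T L f n).symm)).symm

/-- The comparison `opcycles (L ⊗ M[0]) ⟶ coker d ⊗ M`. -/
noncomputable def opIso (M : A) (i j : ℤ) (hij : i + 1 = j) :
    ((tensSingle T L).obj M).opcycles j ≅ (T.obj (cokernel (L.d i j))).obj M :=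
  IsColimit.coconePointUniqueUpToIso
      (((tensSingle T L).obj M).opcyclesIsCokernel i j (by simp [← hij]))
      ((IsColimit.precomposeInvEquiv (parallelPair.ext
          (singleTotalIso (T := T) L 0 M (add_zero i)) (singleTotalIso (T := T) L 0 M (add_zero j))
          (singleTotalIso_d (T := T) L 0 M (add_zero i) (add_zero j) hij) (by simp)) _).symm
        (CokernelCofork.mapIsColimit _ (cokernelIsCokernel (L.d i j)) (T.flip.obj M)))

theorem pOpcycles_opIso (M : A) (i j : ℤ) (hij : i + 1 = j) :
    ((tensSingle T L).obj M).pOpcycles j ≫ (opIso T L M i j hij).hom =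
      (singleTotalIso (T := T) L 0 M (add_zero j)).inv ≫ (T.map (cokernel.π (L.d i j))).app M := by
  refine (IsColimit.comp_coconePointUniqueUpToIso_hom
    (((tensSingle T L).obj M).opcyclesIsCokernel i j (by simp [← hij])) _ WalkingParallelPair.one).trans ?_
  rfl

theorem opIso_naturality {M M' : A} (f : M ⟶ M') (i j : ℤ) (hij : i + 1 = j) :
    HomologicalComplex.opcyclesMap ((tensSingle T L).map f) j ≫ (opIso T L M' i j hij).hom =
      (opIso T L M i j hij).hom ≫ (T.obj (cokernel (L.d i j))).map f := by
  rw [← cancel_epi (((tensSingle T L).obj M).pOpcycles j), HomologicalComplex.p_opcyclesMap_assoc,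
    pOpcycles_opIso]
  refine Eq.trans ?_ ((Category.assoc _ _ _).trans (congrArg (_ ≫ ·) rfl))
  rw [pOpcycles_opIso, Category.assoc, ← NatTrans.naturality, ← Category.assoc, ← Category.assoc]
  exact congrArg (· ≫ _) ((Iso.comp_inv_eq _).2 ((Category.assoc _ _ _).trans
    ((Iso.inv_comp_eq _).2 (singleTotalIso_naturality T L f j))).symm)

theorem mono_opcyclesMap_iff {M M' : A} (f : M ⟶ M') (i j : ℤ) (hij : i + 1 = j) :
    Mono (HomologicalComplex.opcyclesMap ((tensSingle T L).map f) j) ↔
      Mono ((T.obj (cokernel (L.d i j))).map f) :=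
  (MorphismProperty.monomorphisms _).arrow_mk_iso_iff
    (Arrow.isoMk (opIso T L M i j hij) (opIso T L M' i j hij) (opIso_naturality T L f i j hij).symm)

end Generic

variable {C : Type u} [SmallCategory C] {J : GrothendieckTopology C} {O : Sheaf J CommRingCat.{u}}
  (E : CochainComplex (ModSite.Mod O) ℤ) [ModSite.HasLTensorCx E]

theorem isIso_counit_of_kflat (hE : IsKFlat (TS O) E) (K : CochainComplex (ModSite.Mod O) ℤ) :
    IsIso ((counit E).app K) :=
  KFlat.isIso_counit (W := HomologicalComplex.quasiIso (ModSite.Mod O) (ComplexShape.up ℤ))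
    (resFunctor (cover O)) (resNatTrans (cover O)) (fun K => quasiIso_resπ (cover O) K) _
    (fun _ => True) (fun _ => trivial)
    (fun φ hφ _ _ => by
      have : QuasiIso φ := hφ
      have hq : QuasiIso ((G E).map φ) := hE.quasiIso_map₁ φ
      exact inferInstanceAs (IsIso (DerivedCategory.Q.map ((G E).map φ))))
    DerivedCategory.Q _ _ K trivial

theorem mono_Hn_map_iff (hE : IsKFlat (TS O) E) (n : ℤ) {M M' : ModSite.Mod O} (f : M ⟶ M') :
    Mono ((Hn E n).map f) ↔
      Mono (HomologicalComplex.homologyMap ((tensSingle (TS O).flip E).map f) n) := by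
  refine ((MorphismProperty.monomorphisms _).arrow_mk_iso_iff
    (Arrow.isoMk (compIso E (𝟙 (sgl.obj M)) (isIso_counit_of_kflat E hE _) n)
      (compIso E (𝟙 (sgl.obj M')) (isIso_counit_of_kflat E hE _) n)
      (compIso_nat E (𝟙 (sgl.obj M)) (isIso_counit_of_kflat E hE _) (𝟙 (sgl.obj M'))
        (isIso_counit_of_kflat E hE _) f (sgl.map f) (by simp) n).symm)).trans ?_
  refine ((MorphismProperty.monomorphisms _).arrow_mk_iso_iff
    ((HomologicalComplex.homologyFunctor _ _ n).mapArrow.mapIso
      (Arrow.isoMk (f := Arrow.mk ((tensSingle (TS O).flip E).map f)) (g := Arrow.mk ((G E).map (sgl.map f)))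
        (flipIso (TS O) E (sgl.obj M)) (flipIso (TS O) E (sgl.obj M'))
        (HomologicalComplex.mapBifunctorFlipIso_hom_naturality (sgl.map f) (𝟙 E) (TS O)
          (ComplexShape.up ℤ)).symm))).symm

theorem preservesFiniteLimits_iff_isFlat (e : ℤ) (hEb : ∀ i : ℤ, e < i → IsZero (E.X i))
    (hEf : ∀ i : ℤ, ModSite.IsFlat (E.X i)) (p : ℤ) :
    PreservesFiniteLimits (Hn E (p + 1)) ↔ ModSite.IsFlat (cokernel (E.d p (p + 1))) := by
  have hX : ∀ i, IsFlat (TS O) (E.X i) := fun i => (isFlat_iff _).2 (hEf i)
  have : E.IsStrictlyLE e := by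
    rw [CochainComplex.isStrictlyLE_iff]
    exact fun i hi => hEb i hi
  have hE : IsKFlat (TS O) E := isKFlat_of_boundedAbove_flat E e hX
  have key : ∀ {M M' : ModSite.Mod O} (f : M ⟶ M') [Mono f],
      Mono ((Hn E (p + 1)).map f) ↔ Mono (((TS O).flip.obj (cokernel (E.d p (p + 1)))).map f) := by
    intro M M' f _
    have : Mono (((tensSingle (TS O).flip E).map f).f (p + 1 + 1)) :=
      (mono_tensSingle_map_f_iff _ _ f _).2 (have := (hX (p + 1 + 1)).right; inferInstance)
    rw [mono_Hn_map_iff E hE, mono_homologyMap_iff _ (p + 1) (p + 1 + 1) rfl,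
      mono_opcyclesMap_iff _ _ f p (p + 1) rfl]
  rw [preservesFiniteLimits_iff, ← isFlat_iff]
  constructor
  · intro h
    have hr : ((TS O).flip.obj (cokernel (E.d p (p + 1)))).PreservesMonomorphisms := ⟨fun {M M'} f _ =>
      (key f).1 (h (ShortComplex.mk f (cokernel.π f) (cokernel.condition f))
        { exact := ShortComplex.exact_cokernel f })⟩
    exact isFlat_of_left ⟨fun {M M'} f _ => ((MorphismProperty.monomorphisms _).arrow_mk_iso_iff
      (Arrow.isoMk ((flipObjIso O _).app M) ((flipObjIso O _).app M')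
        ((flipObjIso O _).hom.naturality f).symm)).2
        (MorphismProperty.monomorphisms.infer_property (((TS O).flip.obj _).map f))⟩
  · intro h S hS
    have := h.right
    have := hS.mono_f
    exact (key S.f).2 inferInstance

end Groth.Agent.KFlat8
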