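import Groth.Agent.Lib.KFlat.Site
import Groth.Agent.Lib.KFlat.Api
import Groth.Agent.Lib.KFlat.Cone
import Groth.Agent.Lib.RHom.HomExact
import Mathlib.Algebra.Homology.HomologySequenceLemmas
import Mathlib.Algebra.Homology.ShortComplex.ExactFunctor

/-!
The derived tensor product on a ringed site: additivity and the long exact sequence of a short exact
sequence of modules.
-/

set_option autoImplicit false
set_option linter.unusedSectionVars false
set_option backward.isDefEq.respectTransparency false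
set_option backward.isDefEq.respectTransparency.types false

universe u

open CategoryTheory CategoryTheory.Limits

attribute [local instance] HasDerivedCategory.standard

namespace Groth.Agent.KFlat8

open KFlat KFlat.Site

variable {C : Type u} [SmallCategory C] {J : GrothendieckTopology C} {O : Sheaf J CommRingCat.{u}}
  (E : CochainComplex (ModSite.Mod O) ℤ)

/-- The adapted complexes. -/
abbrev Adapted (K : CochainComplex (ModSite.Mod O) ℤ) : Prop := IsKFlat (TS O).flip K

/-- `- ⊗ E` on complexes. -/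
noncomputable abbrev G : CochainComplex (ModSite.Mod O) ℤ ⥤ CochainComplex (ModSite.Mod O) ℤ :=
  (tcx (TS O)).flip.obj E

theorem adapted_res (K : CochainComplex (ModSite.Mod O) ℤ) : Adapted (resObj (cover O) K) :=
  isKFlat_flip_resObj (T := TS O) (cover O) K (isFlat_cover O)

theorem exists_res (K : CochainComplex (ModSite.Mod O) ℤ) :
    ∃ (K' : CochainComplex (ModSite.Mod O) ℤ) (q : K' ⟶ K), Adapted K' ∧ QuasiIso q :=
  ⟨resObj (cover O) K, resπ (cover O) K, adapted_res K, quasiIso_resπ (cover O) K⟩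

theorem quasiIso_G_map {A B : CochainComplex (ModSite.Mod O) ℤ} (φ : A ⟶ B) [QuasiIso φ]
    (hA : Adapted A) (hB : Adapted B) : QuasiIso ((G E).map φ) := by
  have h := quasiIso_map₂' (T := (TS O).flip) (cover O) (fun M => (isFlat_cover O M).flip) φ hA hB E
  exact (quasiIso_iff_of_arrow_mk_iso _ _ (Arrow.isoMk (flipIso (TS O) E A) (flipIso (TS O) E B)
    (HomologicalComplex.mapBifunctorFlipIso_hom_naturality φ (𝟙 E) (TS O) (ComplexShape.up ℤ)).symm)).1 h

variable [ModSite.HasLTensorCx E]

/-- The counit. -/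
noncomputable abbrev counit : DerivedCategory.Q ⋙ ModSite.LTensorCx E ⟶ G E ⋙ DerivedCategory.Q :=
  (ModSite.tensorCxQ E).totalLeftDerivedCounit DerivedCategory.Q
    (HomologicalComplex.quasiIso (ModSite.Mod O) (ComplexShape.up ℤ))

theorem isIso_counit' (K : CochainComplex (ModSite.Mod O) ℤ) (hK : Adapted K) :
    IsIso ((counit E).app K) :=
  KFlat.isIso_counit (W := HomologicalComplex.quasiIso (ModSite.Mod O) (ComplexShape.up ℤ))
    (resFunctor (cover O)) (resNatTrans (cover O)) (fun K => quasiIso_resπ (cover O) K) _ Adapted adapted_res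
    (fun {A B} φ hφ hA hB => by
      have : QuasiIso φ := hφ
      have := quasiIso_G_map E φ hA hB
      exact inferInstanceAs (IsIso (DerivedCategory.Q.map ((G E).map φ))))
    DerivedCategory.Q _ _ K hK

theorem preservesCoproducts_LT (ι : Type u) :
    PreservesColimitsOfShape (Discrete ι) (ModSite.LTensorCx E) := by
  haveI : HasFiniteBiproducts (ModSite.Mod O) := Abelian.hasFiniteBiproducts
  haveI : IsGrothendieckAbelian.{u} (ModSite.Mod O) := CohFound.isGrothendieckAbelian_sheafOfModules (ModSite.ringSh O)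
  haveI : AB4OfSize.{u} (ModSite.Mod O) := AB4.of_AB5 _
  haveI := preservesColimitsOfShape_right (T := TS O) (J := Discrete ι) E
  haveI : ∀ X, PreservesColimitsOfShape (Discrete ι) ((TS O).flip.flip.obj X) :=
    fun X => KFlat.Site.preservesColimitsOfShape_obj (O := O) X
  exact RHom.preservesCoproducts_of_adapted (G := G E)
    (fun Z => preservesColimit_of_preserves_colimit_cocone (coproductIsCoproduct Z)
      ((Cofan.isColimitMapCoconeEquiv _ _ _).symm (KInjLib.isColimitSigma Z)))
    (ModSite.LTensorCx E) Adapted exists_res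
    (fun Z h => IsKFlat.colimit (T := (TS O).flip) (coproductIsCoproduct Z) fun i => h i.as)
    (counit E) (isIso_counit' E)

instance additive_LT : (ModSite.LTensorCx E).Additive := by
  haveI := preservesCoproducts_LT E (ULift.{u} WalkingPair)
  haveI : PreservesColimitsOfShape (Discrete WalkingPair) (ModSite.LTensorCx E) :=
    preservesColimitsOfShape_of_equiv (Discrete.equivalence Equiv.ulift) _
  haveI := preservesCoproducts_LT E PEmpty.{u + 1}
  haveI : PreservesColimitsOfShape (Discrete PEmpty.{1}) (ModSite.LTensorCx E) :=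
    preservesColimitsOfShape_of_equiv (Discrete.equivalence (Equiv.equivPEmpty PEmpty.{u + 1})) _
  haveI : (ModSite.LTensorCx E).PreservesZeroMorphisms := inferInstance
  haveI := preservesBinaryBiproducts_of_preservesBinaryCoproducts (ModSite.LTensorCx E)
  exact Functor.additive_of_preservesBinaryBiproducts _

/-- `M ↦ H^n(M ⊗ᴸ E)`. -/
noncomputable abbrev Hn (n : ℤ) : ModSite.Mod O ⥤ ModSite.Mod O :=
  DerivedCategory.singleFunctor (ModSite.Mod O) 0 ⋙ ModSite.LTensorCx E ⋙
    DerivedCategory.homologyFunctor (ModSite.Mod O) n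

noncomputable abbrev sgl : ModSite.Mod O ⥤ CochainComplex (ModSite.Mod O) ℤ :=
  HomologicalComplex.single (ModSite.Mod O) (ComplexShape.up ℤ) 0

section
variable {M : ModSite.Mod O} {P : CochainComplex (ModSite.Mod O) ℤ} (q : P ⟶ sgl.obj M) [QuasiIso q]
  (hP : IsIso ((counit E).app P))

/-- Computing by an adapted resolution. -/
noncomputable def compIso (n : ℤ) :
    (Hn E n).obj M ≅ ((G E).obj P).homology n :=
  (DerivedCategory.homologyFunctor _ n).mapIso ((ModSite.LTensorCx E).mapIso
      ((DerivedCategory.singleFunctorIsoCompQ _ 0).app M ≪≫ (asIso (DerivedCategory.Q.map q)).symm)) ≪≫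
    (DerivedCategory.homologyFunctor _ n).mapIso (@asIso _ _ _ _ ((counit E).app P) hP) ≪≫
    (DerivedCategory.homologyFunctorFactors _ n).app ((G E).obj P)

theorem compIso_nat {M' : ModSite.Mod O} {P' : CochainComplex (ModSite.Mod O) ℤ} (q' : P' ⟶ sgl.obj M')
    [QuasiIso q'] (hP' : IsIso ((counit E).app P')) (f : M ⟶ M') (φ : P ⟶ P') (w : φ ≫ q' = q ≫ sgl.map f) (n : ℤ) :
    (Hn E n).map f ≫ (compIso E q' hP' n).hom =
      (compIso E q hP n).hom ≫ HomologicalComplex.homologyMap ((G E).map φ) n := by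
  have h1 : (DerivedCategory.singleFunctor _ 0).map f ≫
      ((DerivedCategory.singleFunctorIsoCompQ _ 0).app M' ≪≫ (asIso (DerivedCategory.Q.map q')).symm).hom =
      ((DerivedCategory.singleFunctorIsoCompQ _ 0).app M ≪≫ (asIso (DerivedCategory.Q.map q)).symm).hom ≫
        DerivedCategory.Q.map φ := by
    have hn := (DerivedCategory.singleFunctorIsoCompQ (ModSite.Mod O) 0).hom.naturality f
    have hw : DerivedCategory.Q.map φ ≫ DerivedCategory.Q.map q' =
        DerivedCategory.Q.map q ≫ DerivedCategory.Q.map (sgl.map f) :=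
      (DerivedCategory.Q.map_comp _ _).symm.trans ((congrArg _ w).trans (DerivedCategory.Q.map_comp _ _))
    simp only [Iso.trans_hom, Iso.app_hom, Iso.symm_hom, asIso_inv, Category.assoc]
    rw [← Category.assoc, IsIso.comp_inv_eq]
    simp only [Category.assoc]
    rw [hw, IsIso.inv_hom_id_assoc]
    exact hn
  have h2 := (counit E).naturality φ
  have h3 := (DerivedCategory.homologyFunctorFactors (ModSite.Mod O) n).hom.naturality ((G E).map φ)
  simp only [compIso, Iso.trans_hom, Functor.mapIso_hom, Category.assoc, asIso_hom]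
  refine (Category.assoc _ _ _).symm.trans ((congrArg (· ≫ _)
    (((DerivedCategory.homologyFunctor (ModSite.Mod O) n).map_comp _ _).symm.trans
      ((congrArg (DerivedCategory.homologyFunctor (ModSite.Mod O) n).map
        (((ModSite.LTensorCx E).map_comp _ _).symm.trans
          ((congrArg (ModSite.LTensorCx E).map h1).trans ((ModSite.LTensorCx E).map_comp _ _)))).trans
        ((DerivedCategory.homologyFunctor (ModSite.Mod O) n).map_comp _ _)))).trans
      ((Category.assoc _ _ _).trans ?_))
  refine congrArg (_ ≫ ·) ?_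
  refine (Category.assoc _ _ _).symm.trans ?_
  refine (congrArg (· ≫ _) (((DerivedCategory.homologyFunctor _ n).map_comp _ _).symm.trans
    ((congrArg (DerivedCategory.homologyFunctor _ n).map h2).trans
      ((DerivedCategory.homologyFunctor _ n).map_comp _ _)))).trans ?_
  exact (Category.assoc _ _ _).trans (congrArg (_ ≫ ·) h3)

end

/-- An adapted degreewise split resolution of a short exact sequence of modules. -/
theorem exists_resolution_sequence (S : ShortComplex (ModSite.Mod O)) (hS : S.ShortExact) :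
    ∃ (T : ShortComplex (CochainComplex (ModSite.Mod O) ℤ)) (_ : (T.map (G E)).ShortExact)
      (h : T ⟶ S.map sgl), Adapted T.X₁ ∧ Adapted T.X₂ ∧ Adapted T.X₃ ∧
        QuasiIso h.τ₁ ∧ QuasiIso h.τ₂ ∧ QuasiIso h.τ₃ := by
  let Φ := cover O
  let π := resπ Φ (sgl.obj S.X₁)
  let π' := resπ Φ (sgl.obj S.X₂)
  let φ := (resFunctor Φ).map (sgl.map S.f)
  have hw : φ ≫ π' = π ≫ sgl.map S.f := (resNatTrans Φ).naturality (sgl.map S.f)
  haveI : QuasiIso π := quasiIso_resπ Φ _
  haveI : QuasiIso π' := quasiIso_resπ Φ _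
  let h₂ := biprod.fst (X := resObj Φ (sgl.obj S.X₂)) (Y := CochainComplex.mappingCone (𝟙 (resObj Φ (sgl.obj S.X₁)))) ≫ π'
  have hcyl : cylHom φ ≫ h₂ = π ≫ sgl.map S.f := by
    exact (biprod.lift_fst_assoc _ _ _).trans hw
  have hg : cylHom φ ≫ h₂ ≫ sgl.map S.g = 0 := by
    rw [← Category.assoc, hcyl, Category.assoc, ← Functor.map_comp, S.zero, Functor.map_zero, comp_zero]
  let h : cylSC φ ⟶ S.map sgl :=
    ShortComplex.homMk π h₂ (cokernel.desc _ _ hg) hcyl.symm (cokernel.π_desc _ _ _).symm
  have q₂ : QuasiIso h₂ := by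
    have : QuasiIso (fstHomotopyEquiv (X := resObj Φ (sgl.obj S.X₂))
      (CochainComplex.mappingCone.homotopyToZeroOfId (resObj Φ (sgl.obj S.X₁)))).hom := inferInstance
    exact quasiIso_comp (fstHomotopyEquiv (X := resObj Φ (sgl.obj S.X₂))
      (CochainComplex.mappingCone.homotopyToZeroOfId (resObj Φ (sgl.obj S.X₁)))).hom π'
  have hP₂ := (adapted_res (sgl.obj S.X₂)).biprod
    (isKFlat_of_contractible (T := (TS O).flip) (CochainComplex.mappingCone.homotopyToZeroOfId (resObj Φ (sgl.obj S.X₁))))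
  exact ⟨cylSC φ, (splitPres_right (TS O) E).shortExact _ (cylSC_splitting φ), h, adapted_res _, hP₂,
    (adapted_res _).cylCoker φ (adapted_res _), inferInstanceAs (QuasiIso π), q₂,
    HomologicalComplex.HomologySequence.quasiIso_τ₃ h (cylSC_shortExact φ) (hS.map_of_exact sgl)
      (inferInstanceAs (QuasiIso π)) q₂⟩

theorem exact_Hn_map (n : ℤ) (S : ShortComplex (ModSite.Mod O)) (hS : S.ShortExact) :
    (S.map (Hn E n)).Exact := by
  obtain ⟨T, hT, h, a₁, a₂, a₃, q₁, q₂, q₃⟩ := exists_resolution_sequence E S hS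
  have h₁ := isIso_counit' E _ a₁
  have h₂ := isIso_counit' E _ a₂
  have h₃ := isIso_counit' E _ a₃
  refine (ShortComplex.exact_iff_of_iso ?_).2 (hT.homology_exact₂ n)
  exact ShortComplex.isoMk (compIso E h.τ₁ h₁ n) (compIso E h.τ₂ h₂ n) (compIso E h.τ₃ h₃ n)
    (compIso_nat E h.τ₁ h₁ h.τ₂ h₂ S.f T.f h.comm₁₂.symm n).symm
    (compIso_nat E h.τ₂ h₂ h.τ₃ h₃ S.g T.g h.comm₂₃.symm n).symm

theorem epi_iff_mono (p : ℤ) (S : ShortComplex (ModSite.Mod O)) (hS : S.ShortExact) :
    Epi ((Hn E p).map S.g) ↔ Mono ((Hn E (p + 1)).map S.f) := by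
  obtain ⟨T, hT, h, a₁, a₂, a₃, q₁, q₂, q₃⟩ := exists_resolution_sequence E S hS
  have h₁ := isIso_counit' E _ a₁
  have h₂ := isIso_counit' E _ a₂
  have h₃ := isIso_counit' E _ a₃
  have e₁ : Epi ((Hn E p).map S.g) ↔ Epi (HomologicalComplex.homologyMap ((G E).map T.g) p) :=
    (MorphismProperty.epimorphisms _).arrow_mk_iso_iff
      (Arrow.isoMk (compIso E h.τ₂ h₂ p) (compIso E h.τ₃ h₃ p)
        (compIso_nat E h.τ₂ h₂ h.τ₃ h₃ S.g T.g h.comm₂₃.symm p).symm)
  have e₂ : Mono ((Hn E (p + 1)).map S.f) ↔ Mono (HomologicalComplex.homologyMap ((G E).map T.f) (p + 1)) :=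
    (MorphismProperty.monomorphisms _).arrow_mk_iso_iff
      (Arrow.isoMk (compIso E h.τ₁ h₁ (p + 1)) (compIso E h.τ₂ h₂ (p + 1))
        (compIso_nat E h.τ₁ h₁ h.τ₂ h₂ S.f T.f h.comm₁₂.symm (p + 1)).symm)
  rw [e₁, e₂]
  exact ((hT.homology_exact₃ p (p + 1) rfl).epi_f_iff).trans
    ((hT.homology_exact₁ p (p + 1) rfl).mono_g_iff).symm

theorem preservesFiniteColimits_iff (n : ℤ) :
    PreservesFiniteColimits (Hn E n) ↔
      ∀ S : ShortComplex (ModSite.Mod O), S.ShortExact → Epi ((Hn E n).map S.g) :=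
  (Functor.preservesFiniteColimits_iff_forall_exact_map_and_epi _).trans
    ⟨fun h S hS => (h S hS).2, fun h S hS => ⟨exact_Hn_map E n S hS, h S hS⟩⟩

theorem preservesFiniteLimits_iff (n : ℤ) :
    PreservesFiniteLimits (Hn E n) ↔
      ∀ S : ShortComplex (ModSite.Mod O), S.ShortExact → Mono ((Hn E n).map S.f) :=
  (Functor.preservesFiniteLimits_iff_forall_exact_map_and_mono _).trans
    ⟨fun h S hS => (h S hS).2, fun h S hS => ⟨exact_Hn_map E n S hS, h S hS⟩⟩

theorem rightExact_iff_leftExact_succ (p : ℤ) :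
    PreservesFiniteColimits (Hn E p) ↔ PreservesFiniteLimits (Hn E (p + 1)) := by
  rw [preservesFiniteColimits_iff, preservesFiniteLimits_iff]
  exact forall₂_congr fun S hS => epi_iff_mono E p S hS

end Groth.Agent.KFlat8
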